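import Mathlib
import Cfsg.Prelude.Def_DegreeGraph
import Cfsg.Prelude.Def_Sporadic
import Cfsg.Prelude.Def_KGroupFacts
import Cfsg.Agent.H691.AN.Defs

/-!
# Vocabulary for S4908 (groups with the character degrees of an almost simple sporadic group) (helper704)

`X` is the sporadic group, `c = |Out X|` is `1` or `2`, `D` is the set of degrees of `X` or (`c = 2`) of `Aut X`.
-/

set_option autoImplicit false

namespace Cfsg.Agent.H704.S8

open Cfsg
open Cfsg.Agent.H691.AN (AlmostSimple)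

universe u v

/-- the degree sets of the almost simple groups with socle `X`, `c = |Out X|` -/
def Deg (c : ℕ) (X : Type v) [Group X] (D : Set ℕ) : Prop :=
  D = charDegrees X ∨ (c = 2 ∧ D = charDegrees (MulAut X))

/-- SOLV: no solvable group has the degree set `D` -/
def Solv (D : Set ℕ) : Prop :=
  ∀ {G : Type u} [Group G] [Finite G], Group.IsSolvable G → charDegrees G = D → False

/-- SOC1: an almost simple group with degrees in `D` has socle `X` -/
def Soc1 (D : Set ℕ) (X : Type v) [Group X] : Prop :=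
  ∀ {A : Type u} [Group A] [Finite A] {S : Subgroup A}, AlmostSimple A S → charDegrees A ⊆ D → Nonempty (S ≃* X)

/-- SOC2: minimal normal subgroups are simple -/
def Soc2 (D : Set ℕ) : Prop :=
  ∀ {Y : Type u} [Group Y] [Finite Y], charDegrees Y ⊆ D → ∀ W : Subgroup Y, W.Normal → W ≠ ⊥ →
    (∀ K : Subgroup Y, K.Normal → K ≤ W → K = ⊥ ∨ K = W) → ¬ IsMulCommutative W → IsSimpleGroup W

/-- CHIEF: no abelian chief factor with nontrivial action below `X`; the stabilisers `T` of the nontrivial linear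
characters satisfy `|X| < c |T| k(T)`, and `|X : T|` divides a degree -/
def Chief (c : ℕ) (D : Set ℕ) (X : Type v) [Group X] : Prop :=
  ∀ (Λ : Type u) [CommGroup Λ] [Finite Λ] (ρ : X →* MulAut Λ),
    (∀ x : Λ, x ≠ 1 → ∃ T : Subgroup X, (∀ g : X, g ∈ T ↔ ρ g x = x) ∧ T ≠ ⊤ ∧
      Nat.card X < c * (Nat.card T * Nat.card (ConjClasses T)) ∧ ∃ d ∈ D, T.index ∣ d) →
    ∀ x : Λ, x = 1

/-- FROB: a Frobenius subgroup `P : Q` of `X`, `|P|` prime, none of whose two factors lies in a proper subgroup `T` with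
`|X| < c |T| k(T)` (and `|X : T|` dividing a degree); implies `Chief` -/
def FrobRow (c : ℕ) (D : Set ℕ) (X : Type v) [Group X] : Prop :=
  ∃ P Q : Subgroup X, (Nat.card P).Prime ∧ Q ≤ Subgroup.normalizer (P : Set X) ∧
    (∀ u ∈ P, ∀ g ∈ Q, g * u = u * g → u = 1 ∨ g = 1) ∧ Q ≠ ⊥ ∧
    ∀ T : Subgroup X, T ≠ ⊤ → (P ≤ T ∨ Q ≤ T) → (∃ d ∈ D, T.index ∣ d) →
      c * (Nat.card T * Nat.card (ConjClasses T)) ≤ Nat.card X

/-- COVER: a nonsplit central extension `N` of `X` by a group `V` of prime order `r` (with `N` perfect) has a character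
nontrivial on `V` of degree `d` with `d r^i, 2 d r^i ∉ D` -/
def Cover (D : Set ℕ) (X : Type v) [Group X] : Prop :=
  ∀ {N : Type u} [Group N] [Finite N] (V : Subgroup N) [V.Normal] (r : ℕ), r.Prime → Nat.card V = r →
    V ≤ Subgroup.center N → commutator N = ⊤ → Nonempty ((N ⧸ V) ≃* X) →
    ∃ (χ : N → ℂ) (d : ℕ), IsIrrCharacter N χ ∧ (∃ v ∈ V, χ v ≠ χ 1) ∧ χ 1 = d ∧
      ∀ i : ℕ, d * r ^ i ∉ D ∧ 2 * (d * r ^ i) ∉ D

/-- OUT: `|Out X| ≤ c`; if `c = 2` the degree sets of `X` and `Aut X` are not contained in one another -/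
def OutRow (c : ℕ) (X : Type v) [Group X] : Prop :=
  (MulAut.conj : X →* MulAut X).range.index ≤ c ∧
    (c = 2 → ¬ charDegrees X ⊆ charDegrees (MulAut X) ∧ ¬ charDegrees (MulAut X) ⊆ charDegrees X)

/-- everything about one sporadic group -/
structure Row (c : ℕ) (X : Type v) [Group X] : Prop where
  out : OutRow c X
  solv : ∀ D : Set ℕ, Deg c X D → Solv.{u} D
  soc1 : ∀ D : Set ℕ, Deg c X D → Soc1.{u} D X
  soc2 : ∀ D : Set ℕ, Deg c X D → Soc2.{u} D
  chief : ∀ D : Set ℕ, Deg c X D → Chief.{u} c D X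
  cover : ∀ D : Set ℕ, Deg c X D → Cover.{u} D X
  /-- the multiplier is cyclic without square factor `r ^ 2` of elementary type: an elementary abelian kernel is of prime
  order -/
  mult : ∀ {N : Type u} [Group N] [Finite N] (V : Subgroup N) [V.Normal], V ≤ Subgroup.center N → commutator N = ⊤ →
    Nonempty ((N ⧸ V) ≃* X) → IsCyclic V

end Cfsg.Agent.H704.S8
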