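import Cfsg.Agent.H704.S8.Defs2

/-!
# S4908: the FINAL (weakest) forms of the COVER and OUT rows, used by the assembly (helper704)

`OutRow3` (helper559): one noncontainment is enough. `Cover3` (helper882, helper676): the character may depend on `i`,
`i` is bounded, and the factor `2` is not needed if the degrees of `Aut X` are not in `D`.
-/

set_option autoImplicit false

namespace Cfsg.Agent.H704.S8

open Cfsg

universe u v

/-- COVER, final form -/
def Cover3 (c : ℕ) (D : Set ℕ) (X : Type v) [Group X] : Prop :=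
  ∀ {N : Type u} [Group N] [Finite N] (V : Subgroup N) [V.Normal] (r : ℕ), r.Prime → Nat.card V = r →
    V ≤ Subgroup.center N → commutator N = ⊤ → Nonempty ((N ⧸ V) ≃* X) →
    ∀ i : ℕ, r ^ (2 * i) < c * Nat.card (ConjClasses X) →
    ∃ (χ : N → ℂ) (d : ℕ), IsIrrCharacter N χ ∧ (∃ v ∈ V, χ v ≠ χ 1) ∧ χ 1 = d ∧
      d * r ^ i ∉ D ∧ (2 * (d * r ^ i) ∉ D ∨ ¬ charDegrees (MulAut X) ⊆ D)

theorem Cover'.final {c : ℕ} {D : Set ℕ} {X : Type v} [Group X] (h : Cover'.{u} D X) : Cover3.{u} c D X := by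
  intro N _ _ V _ r hr hV hc hp e i _
  obtain ⟨χ, d, h1, h2, h3, h4, h5⟩ := h V r hr hV hc hp e i
  exact ⟨χ, d, h1, h2, h3, h4, Or.inl h5⟩

theorem Cover.final {c : ℕ} {D : Set ℕ} {X : Type v} [Group X] (h : Cover.{u} D X) : Cover3.{u} c D X :=
  Cover'.final (Cover.weak (D := D) (X := X) (fun V _ r a b c d e => h V r a b c d e))

/-- OUT, final form -/
def OutRow3 (c : ℕ) (X : Type v) [Group X] : Prop :=
  (MulAut.conj : X →* MulAut X).range.index ≤ c ∧ (c = 2 → charDegrees X ≠ charDegrees (MulAut X))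

theorem OutRow'.final {c : ℕ} {X : Type v} [Group X] (h : OutRow' c X) : OutRow3 c X := by
  refine ⟨h.1, fun hc he => ?_⟩
  rcases h.2 hc with ⟨d, h1, h2, -⟩ | ⟨h1, -⟩
  · exact h2 (he ▸ h1)
  · exact h1 he.le

theorem OutRow.final {c : ℕ} {X : Type v} [Group X] (h : OutRow c X) : OutRow3 c X := h.weak.final

/-- everything about one sporadic group, FINAL form: this is what the assembly uses -/
structure Row3 (c : ℕ) (X : Type v) [Group X] : Prop where
  out : OutRow3 c X
  solv : ∀ D : Set ℕ, Deg c X D → Solv.{u} D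
  soc1 : ∀ D : Set ℕ, Deg c X D → Soc1.{u} D X
  soc2 : ∀ D : Set ℕ, Deg c X D → Soc2.{u} D
  chief : ∀ D : Set ℕ, Deg c X D → Chief.{u} c D X
  cover : ∀ D : Set ℕ, Deg c X D → Cover3.{u} c D X
  mult : ∀ {N : Type u} [Group N] [Finite N] (V : Subgroup N) [V.Normal], V ≤ Subgroup.center N → commutator N = ⊤ →
    Nonempty ((N ⧸ V) ≃* X) → IsCyclic V

end Cfsg.Agent.H704.S8
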