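import Cfsg.Agent.H704.S8.Defs

/-!
# The numerical conditions for SOLV in S4908 (helper704)

Two engines: `NumAll D → Solv D` (all degrees `f` are killed; needs a good superset of `D`) and `NumMin D → Solv D` (only
the minimal degree `m` has to be killed, plus a condition on the prime powers dividing `m`).
-/

set_option autoImplicit false

namespace Cfsg.Agent.H704.S8

open Cfsg

/-- `f` is not the nonlinear degree of a minimal nonabelian quotient `G / K` of a solvable group with degree set `D`: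
if `G / K` is a `p`-group then `d f ∈ D` for all `d ∈ D` prime to `p`; otherwise `G / K` is a Frobenius group with kernel
`M / K` of order `q ^ a ≡ 1 (mod f)`, `|G : M| = f`, and every `d ∈ D` is `(d / e) e`, `e` a degree of `M`, with `d / e ∣ f`
and (`f e ∈ D` or `q ^ a ∣ e ^ 2`) -/
def Kill (D : Set ℕ) (f : ℕ) : Prop :=
  (∀ p k : ℕ, p.Prime → f = p ^ k → ∃ d ∈ D, ¬ p ∣ d ∧ d * f ∉ D) ∧
  (∀ q a : ℕ, q.Prime → 0 < a → q ^ a ≡ 1 [MOD f] →
    ∃ d ∈ D, ∀ e : ℕ, e ∣ d → d / e ∣ f → f * e ∉ D ∧ ¬ q ^ a ∣ e ^ 2)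

/-- first engine -/
def NumAll (D : Set ℕ) : Prop :=
  (∃ d ∈ D, 1 < d) ∧ ∀ f ∈ D, 1 < f → Kill D f

/-- the order of `GL_{2c}(s)` -/
def gl (s c : ℕ) : ℕ := ∏ i ∈ Finset.range (2 * c), (s ^ (2 * c) - s ^ i)

/-- the condition which excludes a quasi-primitive character of degree `b > 1` inducing the character of minimal degree:
`s ^ (2c) - 1` is not a sum of orbit lengths `o` -/
def SC1 (D : Set ℕ) (m : ℕ) : Prop :=
  ∀ b s c : ℕ, b ∣ m → s.Prime → 1 ≤ c → s ^ c ∣ b → ∀ l : Multiset ℕ,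
    (∀ o ∈ l, 1 < o ∧ o ∣ gl s c ∧ ∃ t : ℕ, t ∣ m / b ∧ o * t ∈ D) → l.sum + 1 ≠ s ^ (2 * c)

/-- second engine -/
def NumMin (D : Set ℕ) : Prop :=
  ∃ m ∈ D, 1 < m ∧ (∀ d ∈ D, d = 1 ∨ m ≤ d) ∧ Kill D m ∧ SC1 D m

/-- a sufficient condition for `SC1`: no orbit length prime to `s` -/
theorem SC1.of_coprime {D : Set ℕ} {m : ℕ} (hm : 0 < m)
    (h : ∀ s c o t : ℕ, s.Prime → 1 ≤ c → s ^ c ∣ m → 1 < o → o < s ^ (2 * c) → ¬ s ∣ o → o ∣ gl s c →
      t ∣ m / s ^ c → o * t ∉ D) : SC1 D m := by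
  intro b s c hb hs hc hsb l hl hsum
  by_cases hall : ∀ o ∈ l, s ∣ o
  · have h1 : s ∣ l.sum := Multiset.dvd_sum hall
    have h2 : s ∣ l.sum + 1 := by
      rw [hsum]
      exact dvd_pow_self s (by omega)
    have h3 : s ∣ 1 := (Nat.dvd_add_right h1).1 h2
    exact hs.one_lt.ne' (Nat.dvd_one.1 h3)
  · push Not at hall
    obtain ⟨o, ho, hso⟩ := hall
    obtain ⟨h1, h2, t, ht, hot⟩ := hl o ho
    have hle : o ≤ l.sum := Multiset.single_le_sum (fun x _ => Nat.zero_le x) o ho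
    refine h s c o t hs hc (hsb.trans hb) h1 (by omega) hso h2 (ht.trans ?_) hot
    obtain ⟨u, rfl⟩ := hb
    obtain ⟨w, rfl⟩ := hsb
    have hsc : 0 < s ^ c := Nat.pow_pos hs.pos
    have hw : 0 < w := by
      rcases Nat.eq_zero_or_pos w with h0 | h0
      · subst h0; simp at hm
      · exact h0
    rw [Nat.mul_div_cancel_left _ (Nat.mul_pos hsc hw), mul_assoc, Nat.mul_div_cancel_left _ hsc]
    exact Dvd.intro_left w rfl

end Cfsg.Agent.H704.S8
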