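import Cfsg.Agent.H704.S8.Defs

/-!
# S4908: weaker forms of the COVER and OUT rows (helper704; forms proposed by helper882 and helper619)
-/

set_option autoImplicit false

namespace Cfsg.Agent.H704.S8

open Cfsg

universe u v

/-- COVER, weak form (helper882): the character may depend on `i` -/
def Cover' (D : Set ℕ) (X : Type v) [Group X] : Prop :=
  ∀ {N : Type u} [Group N] [Finite N] (V : Subgroup N) [V.Normal] (r : ℕ), r.Prime → Nat.card V = r →
    V ≤ Subgroup.center N → commutator N = ⊤ → Nonempty ((N ⧸ V) ≃* X) → ∀ i : ℕ,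
    ∃ (χ : N → ℂ) (d : ℕ), IsIrrCharacter N χ ∧ (∃ v ∈ V, χ v ≠ χ 1) ∧ χ 1 = d ∧
      d * r ^ i ∉ D ∧ 2 * (d * r ^ i) ∉ D

theorem Cover.weak {D : Set ℕ} {X : Type v} [Group X] (h : Cover.{u} D X) : Cover'.{u} D X := by
  intro N _ _ V _ r hr hV hc hp e i
  obtain ⟨χ, d, h1, h2, h3, h4⟩ := h V r hr hV hc hp e
  exact ⟨χ, d, h1, h2, h3, (h4 i).1, (h4 i).2⟩

/-- a degree of `X` which is not a degree of `Aut X` and is not twice a degree of `X` (helper619) -/
def OutB (X : Type v) [Group X] : Prop :=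
  ∃ d ∈ charDegrees X, d ∉ charDegrees (MulAut X) ∧ ∀ e ∈ charDegrees X, 2 * e ≠ d

/-- OUT, weak form -/
def OutRow' (c : ℕ) (X : Type v) [Group X] : Prop :=
  (MulAut.conj : X →* MulAut X).range.index ≤ c ∧
    (c = 2 → OutB X ∨ (¬ charDegrees X ⊆ charDegrees (MulAut X) ∧ ¬ charDegrees (MulAut X) ⊆ charDegrees X))

theorem OutRow.weak {c : ℕ} {X : Type v} [Group X] (h : OutRow c X) : OutRow' c X :=
  ⟨h.1, fun hc => Or.inr (h.2 hc)⟩

/-- everything about one sporadic group, weak form: this is what the assembly uses -/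
structure Row' (c : ℕ) (X : Type v) [Group X] : Prop where
  out : OutRow' c X
  solv : ∀ D : Set ℕ, Deg c X D → Solv.{u} D
  soc1 : ∀ D : Set ℕ, Deg c X D → Soc1.{u} D X
  soc2 : ∀ D : Set ℕ, Deg c X D → Soc2.{u} D
  chief : ∀ D : Set ℕ, Deg c X D → Chief.{u} c D X
  cover : ∀ D : Set ℕ, Deg c X D → Cover'.{u} D X
  mult : ∀ {N : Type u} [Group N] [Finite N] (V : Subgroup N) [V.Normal], V ≤ Subgroup.center N → commutator N = ⊤ →
    Nonempty ((N ⧸ V) ≃* X) → IsCyclic V

theorem Row.weak {c : ℕ} {X : Type v} [Group X] (R : Row.{u} c X) : Row'.{u} c X where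
  out := R.out.weak
  solv := R.solv
  soc1 := R.soc1
  soc2 := R.soc2
  chief := R.chief
  cover := fun D hD => Cover.weak (D := D) (X := X) (fun V _ r a b c d e => R.cover D hD V r a b c d e)
  mult := fun V _ a b c => R.mult V a b c

end Cfsg.Agent.H704.S8
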